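import Groth.Prelude.Def_SGA4hB
import Mathlib.LinearAlgebra.Matrix.SchurComplement
import Mathlib.LinearAlgebra.Determinant
import Mathlib.LinearAlgebra.FreeModule.Finite.Basic
import Mathlib.RingTheory.Finiteness.Basic
import Mathlib.RingTheory.TensorProduct.Free
import Mathlib.RingTheory.TensorProduct.Finite
import Mathlib.Data.Int.Interval

/-!
Determinants `det(1 - w)` across contractible complexes and triangular endomorphisms.
-/

universe u

open TensorProduct Polynomial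

namespace GrothLib.Det19

section linear

variable {R : Type*} [CommRing R]

theorem det_one_sub_comm {M N : Type*} [AddCommGroup M] [Module R M] [AddCommGroup N] [Module R N]
    [Module.Finite R M] [Module.Free R M] [Module.Finite R N] [Module.Free R N]
    (a : N →ₗ[R] M) (b : M →ₗ[R] N) :
    LinearMap.det (LinearMap.id - a ∘ₗ b) = LinearMap.det (LinearMap.id - b ∘ₗ a) := by
  classical
  let bM := Module.Free.chooseBasis R M
  let bN := Module.Free.chooseBasis R N
  rw [← LinearMap.det_toMatrix bM, ← LinearMap.det_toMatrix bN, map_sub, map_sub,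
    LinearMap.toMatrix_id, LinearMap.toMatrix_id, LinearMap.toMatrix_comp bM bN bM,
    LinearMap.toMatrix_comp bN bM bN]
  exact Matrix.det_one_sub_mul_comm _ _

theorem det_split {M : Type*} [AddCommGroup M] [Module R M] [Module.Finite R M] [Module.Free R M]
    (p q w : Module.End R M) (hpq : p + q = 1) (h2 : q * p = 0) (h : q * w * p = 0) :
    LinearMap.det (1 - w) = LinearMap.det (1 - p * w * p) * LinearMap.det (1 - q * w * q) := by
  have hN : LinearMap.det (1 - p * (w * q)) = 1 := by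
    have := det_one_sub_comm p (w * q)
    rw [← Module.End.mul_eq_comp, ← Module.End.mul_eq_comp, ← Module.End.one_eq_id] at this
    rw [this, mul_assoc, h2, mul_zero, sub_zero, map_one]
  have hw : w = p * w * p + p * (w * q) + q * w * q := by
    calc w = (p + q) * w * (p + q) := by rw [hpq, one_mul, mul_one]
      _ = _ := by rw [add_mul, mul_add, add_mul, add_mul, h, mul_assoc p w q]; abel
  have z : ∀ x : Module.End R M, q * (p * x) = 0 := fun x => by rw [← mul_assoc, h2, zero_mul]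
  have e : 1 - w = (1 - q * w * q) * ((1 - p * (w * q)) * (1 - p * w * p)) := by
    conv_lhs => rw [hw]
    simp only [sub_mul, mul_sub, one_mul, mul_one, mul_assoc, z, mul_zero, sub_zero]
    abel
  rw [e, map_mul, map_mul, hN, one_mul, mul_comm]

variable {P M Q : Type*} [AddCommGroup P] [Module R P] [AddCommGroup M] [Module R M]
  [AddCommGroup Q] [Module R Q] [Module.Finite R M] [Module.Free R M]
  [Module.Finite R Q] [Module.Free R Q]

theorem det_step (d0 : P →ₗ[R] M) (d1 : M →ₗ[R] Q) (s0 : M →ₗ[R] P) (s1 : Q →ₗ[R] M)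
    (wP : P →ₗ[R] P) (wM : M →ₗ[R] M) (wQ : Q →ₗ[R] Q)
    (hs : d0 ∘ₗ s0 + s1 ∘ₗ d1 = LinearMap.id) (hd : d1 ∘ₗ d0 = 0)
    (c0 : wM ∘ₗ d0 = d0 ∘ₗ wP) (c1 : wQ ∘ₗ d1 = d1 ∘ₗ wM) :
    LinearMap.det (LinearMap.id - wM) = LinearMap.det (LinearMap.id - wM ∘ₗ (d0 ∘ₗ s0)) *
      LinearMap.det (LinearMap.id - wQ ∘ₗ (d1 ∘ₗ s1)) := by
  have hz : ∀ x, d1 (d0 x) = 0 := LinearMap.congr_fun hd
  have hsx : ∀ x, d0 (s0 x) + s1 (d1 x) = x := LinearMap.congr_fun hs
  have hd0 : ∀ x, d0 (s0 (d0 x)) = d0 x := fun x => by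
    simpa [hz] using hsx (d0 x)
  have hd1 : ∀ x, d1 (s1 (d1 x)) = d1 x := fun x => by
    simpa [hz] using congrArg d1 (hsx x)
  let p : Module.End R M := d0 ∘ₗ s0
  let q : Module.End R M := s1 ∘ₗ d1
  have h2 : q * p = 0 := LinearMap.ext fun x => by
    change s1 (d1 (d0 (s0 x))) = 0
    rw [hz, map_zero]
  have h : q * (wM : Module.End R M) * p = 0 := LinearMap.ext fun x => by
    change s1 (d1 (wM (d0 (s0 x)))) = 0
    rw [show wM (d0 (s0 x)) = d0 (wP (s0 x)) from LinearMap.congr_fun c0 _, hz, map_zero]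
  have hwp : p * (wM : Module.End R M) * p = wM * p := LinearMap.ext fun x => by
    change d0 (s0 (wM (d0 (s0 x)))) = wM (d0 (s0 x))
    rw [show wM (d0 (s0 x)) = d0 (wP (s0 x)) from LinearMap.congr_fun c0 _, hd0]
  refine (det_split p q wM hs h2 h).trans ?_
  rw [hwp]
  congr 1
  have e : q * (wM : Module.End R M) * q = s1 ∘ₗ (wQ ∘ₗ d1) := LinearMap.ext fun x => by
    change s1 (d1 (wM (s1 (d1 x)))) = s1 (wQ (d1 x))
    rw [← show wQ (d1 (s1 (d1 x))) = d1 (wM (s1 (d1 x))) from LinearMap.congr_fun c1 _, hd1]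
  rw [e]
  exact (det_one_sub_comm s1 (wQ ∘ₗ d1)).trans (by rw [LinearMap.comp_assoc])

theorem det_triangular [Module.Finite R P] [Module.Free R P]
    (i1 : P →ₗ[R] M) (f1 : M →ₗ[R] P) (i2 : Q →ₗ[R] M) (f2 : M →ₗ[R] Q)
    (w : M →ₗ[R] M) (a : P →ₗ[R] P) (b : Q →ₗ[R] Q)
    (hid : i2 ∘ₗ f2 + i1 ∘ₗ f1 = LinearMap.id) (h11 : f1 ∘ₗ i1 = LinearMap.id)
    (h22 : f2 ∘ₗ i2 = LinearMap.id) (h12 : f1 ∘ₗ i2 = 0)
    (w11 : f1 ∘ₗ w ∘ₗ i1 = a) (w12 : f1 ∘ₗ w ∘ₗ i2 = 0) (w22 : f2 ∘ₗ w ∘ₗ i2 = b) :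
    LinearMap.det (LinearMap.id - w) =
      LinearMap.det (LinearMap.id - a) * LinearMap.det (LinearMap.id - b) := by
  let p : Module.End R M := i2 ∘ₗ f2
  let q : Module.End R M := i1 ∘ₗ f1
  have h2 : q * p = 0 := LinearMap.ext fun x => by
    change i1 (f1 (i2 (f2 x))) = 0
    rw [show f1 (i2 (f2 x)) = 0 from LinearMap.congr_fun h12 _, map_zero]
  have h : q * (w : Module.End R M) * p = 0 := LinearMap.ext fun x => by
    change i1 (f1 (w (i2 (f2 x)))) = 0
    rw [show f1 (w (i2 (f2 x))) = 0 from LinearMap.congr_fun w12 (f2 x), map_zero]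
  refine (det_split p q w hid h2 h).trans ?_
  rw [mul_comm]
  congr 1
  · have : q * (w : Module.End R M) * q = i1 ∘ₗ (a ∘ₗ f1) := by rw [← w11]; rfl
    rw [this]
    exact (det_one_sub_comm i1 (a ∘ₗ f1)).trans
      (by rw [LinearMap.comp_assoc, h11, LinearMap.comp_id])
  · have : p * (w : Module.End R M) * p = i2 ∘ₗ (b ∘ₗ f2) := by rw [← w22]; rfl
    rw [this]
    exact (det_one_sub_comm i2 (b ∘ₗ f2)).trans
      (by rw [LinearMap.comp_assoc, h22, LinearMap.comp_id])

end linear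

section poly

variable {A : Type u} [CommRing A]

/-- `det(1 - t f)`. -/
noncomputable def D {M : Type u} [AddCommGroup M] [Module A M] (f : M →ₗ[A] M) : A[X] :=
  LinearMap.det (LinearMap.id - (X : A[X]) • f.baseChange A[X])

theorem D_subsingleton {M : Type u} [AddCommGroup M] [Module A M] [Subsingleton M]
    (f : M →ₗ[A] M) : D f = 1 := by
  have : Subsingleton (A[X] ⊗[A] M) := by
    refine subsingleton_of_forall_eq 0 fun z => ?_
    induction z using TensorProduct.induction_on with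
    | zero => rfl
    | tmul x y => rw [Subsingleton.elim y 0, TensorProduct.tmul_zero]
    | add x y hx hy => rw [hx, hy, add_zero]
  exact LinearMap.det_eq_one_of_subsingleton _

variable {P M Q : Type u} [AddCommGroup P] [Module A P] [AddCommGroup M] [Module A M]
  [AddCommGroup Q] [Module A Q] [Module.Finite A M] [Module.Free A M]
  [Module.Finite A Q] [Module.Free A Q]

theorem D_step (d0 : P →ₗ[A] M) (d1 : M →ₗ[A] Q) (s0 : M →ₗ[A] P) (s1 : Q →ₗ[A] M)
    (wP : P →ₗ[A] P) (wM : M →ₗ[A] M) (wQ : Q →ₗ[A] Q)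
    (hs : d0 ∘ₗ s0 + s1 ∘ₗ d1 = LinearMap.id) (hd : d1 ∘ₗ d0 = 0)
    (c0 : wM ∘ₗ d0 = d0 ∘ₗ wP) (c1 : wQ ∘ₗ d1 = d1 ∘ₗ wM) :
    D wM = D (wM ∘ₗ (d0 ∘ₗ s0)) * D (wQ ∘ₗ (d1 ∘ₗ s1)) := by
  unfold D
  rw [det_step (d0.baseChange A[X]) (d1.baseChange A[X]) (s0.baseChange A[X])
    (s1.baseChange A[X]) ((X : A[X]) • wP.baseChange A[X]) _ ((X : A[X]) • wQ.baseChange A[X])
    (by rw [← LinearMap.baseChange_comp, ← LinearMap.baseChange_comp, ← LinearMap.baseChange_add,
      hs, LinearMap.baseChange_id])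
    (by rw [← LinearMap.baseChange_comp, hd, LinearMap.baseChange_zero])
    (by rw [LinearMap.smul_comp, LinearMap.comp_smul, ← LinearMap.baseChange_comp,
      ← LinearMap.baseChange_comp, c0])
    (by rw [LinearMap.smul_comp, LinearMap.comp_smul, ← LinearMap.baseChange_comp,
      ← LinearMap.baseChange_comp, c1])]
  simp only [LinearMap.smul_comp, LinearMap.baseChange_comp]

theorem D_triangular [Module.Finite A P] [Module.Free A P]
    (i1 : P →ₗ[A] M) (f1 : M →ₗ[A] P) (i2 : Q →ₗ[A] M) (f2 : M →ₗ[A] Q)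
    (w : M →ₗ[A] M) (a : P →ₗ[A] P) (b : Q →ₗ[A] Q)
    (hid : i2 ∘ₗ f2 + i1 ∘ₗ f1 = LinearMap.id) (h11 : f1 ∘ₗ i1 = LinearMap.id)
    (h22 : f2 ∘ₗ i2 = LinearMap.id) (h12 : f1 ∘ₗ i2 = 0)
    (w11 : f1 ∘ₗ w ∘ₗ i1 = a) (w12 : f1 ∘ₗ w ∘ₗ i2 = 0) (w22 : f2 ∘ₗ w ∘ₗ i2 = b) :
    D w = D a * D b := by
  unfold D
  exact det_triangular (i1.baseChange A[X]) (f1.baseChange A[X]) (i2.baseChange A[X])
    (f2.baseChange A[X]) _ ((X : A[X]) • a.baseChange A[X]) ((X : A[X]) • b.baseChange A[X])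
    (by rw [← LinearMap.baseChange_comp, ← LinearMap.baseChange_comp, ← LinearMap.baseChange_add,
      hid, LinearMap.baseChange_id])
    (by rw [← LinearMap.baseChange_comp, h11, LinearMap.baseChange_id])
    (by rw [← LinearMap.baseChange_comp, h22, LinearMap.baseChange_id])
    (by rw [← LinearMap.baseChange_comp, h12, LinearMap.baseChange_zero])
    (by rw [LinearMap.smul_comp, LinearMap.comp_smul, ← LinearMap.baseChange_comp,
      ← LinearMap.baseChange_comp, w11])
    (by rw [LinearMap.smul_comp, LinearMap.comp_smul, ← LinearMap.baseChange_comp,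
      ← LinearMap.baseChange_comp, w12, LinearMap.baseChange_zero, smul_zero])
    (by rw [LinearMap.smul_comp, LinearMap.comp_smul, ← LinearMap.baseChange_comp,
      ← LinearMap.baseChange_comp, w22])

end poly

section prod

variable {N : Type*} [CommMonoid N]

theorem finprod_even_succ (F : ℤ → N) :
    (∏ᶠ i : {i : ℤ // Even i}, F (i.1 + 1)) = ∏ᶠ i : {i : ℤ // Odd i}, F i.1 := by
  let e : {i : ℤ // Even i} ≃ {i : ℤ // Odd i} :=
    (Equiv.addRight (1 : ℤ)).subtypeEquiv fun i => by simp [parity_simps]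
  exact finprod_comp_equiv e (f := fun j : {i : ℤ // Odd i} => F j.1)

theorem finprod_odd_succ (F : ℤ → N) :
    (∏ᶠ i : {i : ℤ // Odd i}, F (i.1 + 1)) = ∏ᶠ i : {i : ℤ // Even i}, F i.1 := by
  let e : {i : ℤ // Odd i} ≃ {i : ℤ // Even i} :=
    (Equiv.addRight (1 : ℤ)).subtypeEquiv fun i => by simp [parity_simps]
  exact finprod_comp_equiv e (f := fun j : {i : ℤ // Even i} => F j.1)

theorem finprod_parity_mul (pr : ℤ → Prop) (F G : ℤ → N) (a b : ℤ)
    (hF : ∀ i, i < a ∨ b < i → F i = 1) (hG : ∀ i, i < a ∨ b < i → G i = 1) :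
    (∏ᶠ i : {i : ℤ // pr i}, F i.1 * G i.1) =
      (∏ᶠ i : {i : ℤ // pr i}, F i.1) * ∏ᶠ i : {i : ℤ // pr i}, G i.1 := by
  have key : ∀ (F : ℤ → N), (∀ i, i < a ∨ b < i → F i = 1) →
      (Function.mulSupport fun i : {i : ℤ // pr i} => F i.1).Finite := fun F hF => by
    refine ((Set.finite_Icc a b).preimage Subtype.val_injective.injOn).subset fun i hi => ?_
    rw [Function.mem_mulSupport] at hi
    by_contra h
    simp only [Set.mem_preimage, Set.mem_Icc, not_and_or, not_le] at h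
    exact hi (hF _ h)
  exact finprod_mul_distrib (key F hF) (key G hG)

end prod

end GrothLib.Det19
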